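import Groth.Agent.An92.FSch.Thick
import Groth.Agent.FlatMor67.Lifts
import Groth.Agent.Smooth28.Lift
import Mathlib.AlgebraicGeometry.Morphisms.Smooth

/-!
Formal completions of smooth affine schemes over a base and lifting of morphisms between them.
-/

set_option autoImplicit false
set_option backward.isDefEq.respectTransparency.types false

universe u

open CategoryTheory CategoryTheory.Limits AlgebraicGeometry

noncomputable section

namespace Groth.Agent.FLift27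

open _root_.FSch

theorem isPullback_lift {P S Z Z' : Scheme.{u}} (g : P ⟶ S) (i : Z ⟶ S) (i' : Z' ⟶ S) (t : Z ⟶ Z')
    (ht : t ≫ i' = i) :
    IsPullback (pullback.lift (pullback.fst g i) (pullback.snd g i ≫ t)
      (by rw [Category.assoc, ht]; exact pullback.condition) : pullback g i ⟶ pullback g i')
      (pullback.snd g i) (pullback.snd g i') t := by
  refine IsPullback.of_right (h₁₂ := pullback.fst g i') (v₁₃ := g) (h₂₂ := i') ?_
    (pullback.lift_snd _ _ _) (IsPullback.of_hasPullback g i')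
  rw [pullback.lift_fst, ht]
  exact IsPullback.of_hasPullback g i

theorem sq_ker_eq_bot {S Z Z' A B : Scheme.{u}} (i : Z ⟶ S) (i' : Z' ⟶ S) (t : Z ⟶ Z') (ht : t ≫ i' = i)
    {s : A ⟶ B} {p : A ⟶ Z} {p' : B ⟶ Z'} (h : IsPullback s p p' t) [IsClosedImmersion i] [IsClosedImmersion i']
    (hle : i.ker ^ 2 ≤ i'.ker) : s.ker ^ 2 = ⊥ := by
  haveI : IsClosedImmersion t := by
    have : IsClosedImmersion (t ≫ i') := ht.symm ▸ inferInstance
    exact IsClosedImmersion.of_comp t i'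
  have hsq : IsPullback t (𝟙 Z) i' i :=
    IsPullback.of_isLimit (PullbackCone.IsLimit.mk (fst := t) (snd := 𝟙 Z)
      (by rw [Category.id_comp, ht]) (fun s => s.snd)
      (fun s => (cancel_mono i').1 (by rw [s.condition, Category.assoc, ht]))
      (fun s => Category.comp_id _) (fun s m _ h₂ => by simpa using h₂))
  rw [An92.FSch.comap_ker_of_isPullback h, An92.FSch.comap_ker_of_isPullback hsq, ← An92.FSch.comap_pow,
    ← An92.FSch.comap_pow]
  refine le_bot_iff.1 (((Scheme.IdealSheafData.comap_mono p') ((Scheme.IdealSheafData.comap_mono i') hle)).trans ?_)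
  show ((i'.ker.comap i').comap p') ≤ ⊥
  rw [An92.FSch.comap_ker_self, Scheme.IdealSheafData.comap_bot]

variable {S : Scheme.{u}} (𝒥 : S.IdealSheafData)

section

variable {P : Scheme.{u}} (g : P ⟶ S)

/-- The pullback of the completion along `g`. -/
def pullSys : Sys.{u} where
  X n := pullback g (completionToX S 𝒥 n)
  ι n := pullback.lift (pullback.fst _ _)
    (pullback.snd _ _ ≫ Scheme.IdealSheafData.inclusion (pow_succ_le S 𝒥 n))
    (by rw [Category.assoc, pullback.condition]; congr 1; exact (Scheme.IdealSheafData.inclusion_subschemeι _).symm)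

/-- The structure morphism. -/
def pullHom : pullSys 𝒥 g ⟶ completionAlong S 𝒥 :=
  ({ app := fun n => pullback.snd g (completionToX S 𝒥 n)
     comm := fun n => (pullback.lift_snd _ _ _).symm } : FSch.Hom (pullSys 𝒥 g) (completionAlong S 𝒥))

theorem isAdicHom_pullHom : IsAdicHom (pullHom 𝒥 g) := fun n =>
  isPullback_lift g (completionToX S 𝒥 n) (completionToX S 𝒥 (n + 1))
    (Scheme.IdealSheafData.inclusion (pow_succ_le S 𝒥 n)) (Scheme.IdealSheafData.inclusion_subschemeι _)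

theorem smooth_pullHom [Smooth g] (n : ℕ) : Smooth ((pullHom 𝒥 g : FSch.Hom _ _).app n) :=
  inferInstanceAs (Smooth (pullback.snd g (completionToX S 𝒥 n)))

theorem isClosedImmersion_completionToX (n : ℕ) : IsClosedImmersion (completionToX S 𝒥 n) :=
  inferInstanceAs (IsClosedImmersion (𝒥 ^ (n + 1)).subschemeι)

theorem ker_completionToX (n : ℕ) : (completionToX S 𝒥 n).ker = 𝒥 ^ (n + 1) :=
  Scheme.IdealSheafData.ker_subschemeι _

theorem isClosedImmersion_ι (n : ℕ) : IsClosedImmersion ((pullSys 𝒥 g).ι n) :=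
  MorphismProperty.of_isPullback (P := @IsClosedImmersion) (isAdicHom_pullHom 𝒥 g n).flip
    (inferInstanceAs (IsClosedImmersion (Scheme.IdealSheafData.inclusion (pow_succ_le S 𝒥 n))))

theorem isNilpotent_ker_ι (n : ℕ) : IsNilpotent ((pullSys 𝒥 g).ι n).ker :=
  haveI := isClosedImmersion_completionToX 𝒥 n
  haveI := isClosedImmersion_completionToX 𝒥 (n + 1)
  ⟨2, sq_ker_eq_bot (completionToX S 𝒥 n) (completionToX S 𝒥 (n + 1))
    (Scheme.IdealSheafData.inclusion (pow_succ_le S 𝒥 n)) (Scheme.IdealSheafData.inclusion_subschemeι _)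
    (isAdicHom_pullHom 𝒥 g n) (by
      rw [ker_completionToX, ker_completionToX, ← pow_mul]
      exact pow_le_pow_of_le_one bot_le le_top (by omega))⟩

theorem isAffine_level [IsAffine P] (n : ℕ) : IsAffine ((pullSys 𝒥 g).X n) :=
  haveI := isClosedImmersion_completionToX 𝒥 n
  @isAffine_of_isAffineHom _ _ (pullback.fst g (completionToX S 𝒥 n))
    (MorphismProperty.pullback_fst (P := @IsAffineHom) _ _ (inferInstance : IsAffineHom (completionToX S 𝒥 n))) _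

end

section Lift

variable {R A B : CommRingCat.{u}} (φA : R ⟶ A) (φB : R ⟶ B) (hB : φB.hom.Smooth) (j : Spec R ⟶ S)

include hB in
theorem exists_lift_step {T T' : Scheme.{u}} (t : T ⟶ T') [IsClosedImmersion t] [IsAffine T']
    (ht : IsNilpotent t.ker) (u : T' ⟶ Spec R) (Φ : T ⟶ Spec B) (w : t ≫ u = Φ ≫ Spec.map φB) :
    ∃ Φ' : T' ⟶ Spec B, Φ' ≫ Spec.map φB = u ∧ t ≫ Φ' = Φ := by
  have hsm : Smooth (Spec.map φB) := (HasRingHomProperty.Spec_iff (P := @Smooth)).mpr hB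
  have hfs : letI := ((Spec.map φB).appLE ⊤ ⊤ le_top).hom.toAlgebra
      Algebra.FormallySmooth Γ(Spec R, ⊤) Γ(Spec B, ⊤) := by
    let := ((Spec.map φB).appLE ⊤ ⊤ le_top).hom.toAlgebra
    have h : Algebra.Smooth Γ(Spec R, ⊤) Γ(Spec B, ⊤) :=
      Smooth.smooth_appLE (Spec.map φB) (isAffineOpen_top _) (isAffineOpen_top _) le_top
    infer_instance
  obtain ⟨l, hl₁, hl₂⟩ := FlatMor67.exists_local_lift (t := t) (a := Φ) (f := Spec.map φB) (b := u)
    ht w (isAffineOpen_top _) (isAffineOpen_top _) le_top hfs (W := ⊤)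
    (isAffineOpen_top _) le_top le_top
  let τ : T' ⟶ ((⊤ : T'.Opens) : Scheme.{u}) := (Scheme.topIso T').inv
  have hτ : τ ≫ (⊤ : T'.Opens).ι = 𝟙 T' := (Scheme.topIso T').inv_hom_id
  let σ : T ⟶ ((t ⁻¹ᵁ ⊤ : T.Opens) : Scheme.{u}) := (Scheme.topIso T).inv
  have hσ : σ ≫ (t ⁻¹ᵁ ⊤ : T.Opens).ι = 𝟙 T := (Scheme.topIso T).inv_hom_id
  have e : t ≫ τ = σ ≫ (t ∣_ ⊤) := by
    rw [← cancel_mono (⊤ : T'.Opens).ι, Category.assoc, Category.assoc, hτ, morphismRestrict_ι,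
      ← Category.assoc σ, hσ, Category.comp_id, Category.id_comp]
  refine ⟨τ ≫ l, ?_, ?_⟩
  · rw [Category.assoc, hl₁, ← Category.assoc, hτ, Category.id_comp]
  · rw [← Category.assoc, e, Category.assoc, hl₂, ← Category.assoc, hσ, Category.id_comp]

include hB in
theorem exists_lift_succ (n : ℕ) (Φ : (pullSys 𝒥 (Spec.map φA ≫ j)).X n ⟶ Spec B)
    (hΦ : Φ ≫ Spec.map φB = pullback.fst _ _ ≫ Spec.map φA) :
    ∃ Φ' : (pullSys 𝒥 (Spec.map φA ≫ j)).X (n + 1) ⟶ Spec B,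
      Φ' ≫ Spec.map φB = pullback.fst _ _ ≫ Spec.map φA ∧ (pullSys 𝒥 (Spec.map φA ≫ j)).ι n ≫ Φ' = Φ :=
  haveI := isAffine_level 𝒥 (Spec.map φA ≫ j) (n + 1)
  haveI := isClosedImmersion_ι 𝒥 (Spec.map φA ≫ j) n
  exists_lift_step φB hB _ (isNilpotent_ker_ι 𝒥 (Spec.map φA ≫ j) n) _ Φ
    ((Category.assoc _ _ _).symm.trans
      ((congrArg (· ≫ Spec.map φA) (pullback.lift_fst _ _ _)).trans hΦ.symm))

theorem lift_comm {X S' X' S'' T : Scheme.{u}} {g₁ : X ⟶ S''} {i : S' ⟶ S''} {i' : X' ⟶ S''} (t : S' ⟶ X')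
    {P : Scheme.{u}} (Φ : P ⟶ X) (Φ' : T ⟶ X) (s : P ⟶ T) (a : P ⟶ S') (a' : T ⟶ X') (hs : s ≫ Φ' = Φ)
    (ha : s ≫ a' = a ≫ t) (h : Φ ≫ g₁ = a ≫ i) (h' : Φ' ≫ g₁ = a' ≫ i') (ht : t ≫ i' = i) :
    (pullback.lift Φ a h : P ⟶ pullback g₁ i) ≫ pullback.lift (pullback.fst g₁ i) (pullback.snd g₁ i ≫ t)
        (by rw [Category.assoc, ht]; exact pullback.condition) =
      s ≫ pullback.lift Φ' a' h' := by
  apply pullback.hom_ext
  · rw [Category.assoc (pullback.lift Φ a h), Category.assoc s, pullback.lift_fst, pullback.lift_fst, pullback.lift_fst, hs]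
  · rw [Category.assoc (pullback.lift Φ a h), Category.assoc s, pullback.lift_snd, pullback.lift_snd, pullback.lift_snd_assoc, ha]

include hB in
theorem exists_lift_sys (Φ₀ : (pullSys 𝒥 (Spec.map φA ≫ j)).X 0 ⟶ Spec B)
    (hΦ₀ : Φ₀ ≫ Spec.map φB = pullback.fst _ _ ≫ Spec.map φA) :
    ∃ Φ : pullSys 𝒥 (Spec.map φA ≫ j) ⟶ pullSys 𝒥 (Spec.map φB ≫ j),
      Φ ≫ pullHom 𝒥 _ = pullHom 𝒥 _ ∧ (Φ : FSch.Hom _ _).app 0 ≫ pullback.fst _ _ = Φ₀ := by
  let F : ∀ n, {Φ : (pullSys 𝒥 (Spec.map φA ≫ j)).X n ⟶ Spec B //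
      Φ ≫ Spec.map φB = pullback.fst _ _ ≫ Spec.map φA} :=
    fun n => n.rec ⟨Φ₀, hΦ₀⟩ fun n Φ => ⟨(exists_lift_succ 𝒥 φA φB hB j n Φ.1 Φ.2).choose,
      (exists_lift_succ 𝒥 φA φB hB j n Φ.1 Φ.2).choose_spec.1⟩
  have hF : ∀ n, (pullSys 𝒥 (Spec.map φA ≫ j)).ι n ≫ (F (n + 1)).1 = (F n).1 := fun n =>
    (exists_lift_succ 𝒥 φA φB hB j n (F n).1 (F n).2).choose_spec.2
  have hw : ∀ n, (F n).1 ≫ Spec.map φB ≫ j = pullback.snd (Spec.map φA ≫ j) _ ≫ completionToX S 𝒥 n :=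
    fun n => ((Category.assoc _ _ _).symm.trans ((congrArg (· ≫ j) (F n).2).trans (Category.assoc _ _ _))).trans
      pullback.condition
  let Φ : FSch.Hom (pullSys 𝒥 (Spec.map φA ≫ j)) (pullSys 𝒥 (Spec.map φB ≫ j)) :=
    { app := fun n => pullback.lift (F n).1 (pullback.snd _ _) (hw n)
      comm := fun n => (lift_comm (Scheme.IdealSheafData.inclusion (pow_succ_le S 𝒥 n)) _ _ _ _ _ (hF n)
        (pullback.lift_snd _ _ _) (hw n) (hw (n + 1)) (Scheme.IdealSheafData.inclusion_subschemeι _)) }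
  exact ⟨Φ, FSch.Hom.ext (funext fun n => pullback.lift_snd _ _ _), pullback.lift_fst _ _ (hw 0)⟩

end Lift

/-- A surjection of rings whose kernel is extended from a surjection gives a cartesian square of spectra. -/
theorem isPushout_of_ker {R R₀ A A₀ : CommRingCat.{u}} (q : R ⟶ R₀) (φ : R ⟶ A) (π : A ⟶ A₀) (φ₀ : R₀ ⟶ A₀)
    (w : φ ≫ π = q ≫ φ₀) (hπ : Function.Surjective π)
    (hker : RingHom.ker π.hom = (RingHom.ker q.hom).map φ.hom) (hq : Function.Surjective q) :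
    CategoryTheory.IsPushout φ q π φ₀ := by
  refine IsPushout.of_isColimit' ⟨w⟩ (PushoutCocone.IsColimit.mk w (fun s => ?_) (fun s => ?_) (fun s => ?_) ?_)
  · exact CommRingCat.ofHom (π.hom.liftOfSurjective hπ ⟨s.inl.hom, by
      rw [hker, Ideal.map_le_iff_le_comap]
      intro r hr
      rw [Ideal.mem_comap, RingHom.mem_ker]
      refine (congrArg (fun ψ => ψ.hom r) s.condition).trans ?_
      change s.inr (q r) = 0
      rw [show q r = 0 from hr, map_zero]⟩)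
  · exact CommRingCat.hom_ext (RingHom.liftOfSurjective_comp _ hπ _)
  · refine CommRingCat.hom_ext (RingHom.ext fun z => ?_)
    obtain ⟨r, rfl⟩ := hq z
    have h1 : s.inl.hom (φ r) = s.inr.hom (q r) := congrArg (fun ψ => ψ.hom r) s.condition
    have h2 : π.hom (φ r) = φ₀.hom (q r) := congrArg (fun ψ => ψ.hom r) w
    refine Eq.trans ?_ h1
    show (π.hom.liftOfSurjective hπ _) (φ₀.hom (q r)) = _
    rw [← h2]
    exact RingHom.liftOfSurjective_comp_apply π.hom hπ _ (φ r)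
  · intro s m hm₁ _
    refine CommRingCat.hom_ext (RingHom.ext fun z => ?_)
    obtain ⟨a, rfl⟩ := hπ z
    exact (congrArg (fun ψ => ψ.hom a) hm₁).trans (RingHom.liftOfSurjective_comp_apply π.hom hπ ⟨s.inl.hom, _⟩ a).symm

/-- A smooth affine chart over the reduction lifts to a smooth affine scheme over the chart of the base. -/
theorem exists_smooth_model {W : S.Opens} (hW : IsAffineOpen W) {X₀ : Scheme.{u}}
    (a : X₀ ⟶ (completionAlong S 𝒥).X 0) [Smooth a] {U₀ : X₀.Opens} (hU₀ : IsAffineOpen U₀)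
    (hle : U₀ ≤ a ⁻¹ᵁ (completionToX S 𝒥 0 ⁻¹ᵁ W)) :
    ∃ (A : CommRingCat.{u}) (φ : Γ(S, W) ⟶ A) (k : (U₀ : Scheme.{u}) ⟶ Spec A), φ.hom.Smooth ∧
      k ≫ Spec.map φ ≫ hW.fromSpec = U₀.ι ≫ a ≫ completionToX S 𝒥 0 ∧
      IsPullback k (U₀.ι ≫ a) (Spec.map φ ≫ hW.fromSpec) (completionToX S 𝒥 0) := by
  let i := completionToX S 𝒥 0
  haveI : IsClosedImmersion i := inferInstanceAs (IsClosedImmersion (𝒥 ^ (0 + 1)).subschemeι)
  have hW₀ : IsAffineOpen (i ⁻¹ᵁ W) := hW.preimage i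
  let q : Γ(S, W) ⟶ Γ((completionAlong S 𝒥).X 0, i ⁻¹ᵁ W) := i.app W
  let φ₀ : Γ((completionAlong S 𝒥).X 0, i ⁻¹ᵁ W) ⟶ Γ(X₀, U₀) := a.appLE (i ⁻¹ᵁ W) U₀ hle
  have hq : Function.Surjective q := i.app_surjective W hW
  letI := q.hom.toAlgebra
  letI := φ₀.hom.toAlgebra
  letI := (q ≫ φ₀).hom.toAlgebra
  haveI : IsScalarTower Γ(S, W) Γ((completionAlong S 𝒥).X 0, i ⁻¹ᵁ W) Γ(X₀, U₀) :=
    IsScalarTower.of_algebraMap_eq' rfl
  haveI : Algebra.Smooth Γ((completionAlong S 𝒥).X 0, i ⁻¹ᵁ W) Γ(X₀, U₀) :=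
    Smooth.smooth_appLE a hW₀ hU₀ hle
  obtain ⟨A, cA, aA, hA, π, hπ, hker⟩ := Smooth28.exists_smooth_lift
    (R := Γ(S, W)) (R₀ := Γ((completionAlong S 𝒥).X 0, i ⁻¹ᵁ W)) (A₀ := Γ(X₀, U₀)) hq
  let A' : CommRingCat.{u} := CommRingCat.of A
  let φ : Γ(S, W) ⟶ A' := CommRingCat.ofHom (algebraMap Γ(S, W) A)
  let π' : A' ⟶ Γ(X₀, U₀) := CommRingCat.ofHom π.toRingHom
  have hpo : CategoryTheory.IsPushout φ q π' φ₀ := isPushout_of_ker q φ π' φ₀
    (CommRingCat.hom_ext (RingHom.ext fun r => π.commutes r)) hπ hker hq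
  have h1 := (isPullback_SpecMap_of_isPushout _ _ _ _ hpo)
  have h2 : IsPullback (Spec.map q) hW₀.fromSpec hW.fromSpec i := by
    refine IsOpenImmersion.isPullback (Spec.map q) hW₀.fromSpec hW.fromSpec i ?_ ?_
    · exact ((congrArg (Spec.map · ≫ hW.fromSpec) (Scheme.Hom.appLE_eq_app i).symm).trans
        (hW.SpecMap_appLE_fromSpec i hW₀ le_rfl)).symm
    · rw [hW.opensRange_fromSpec, hW₀.opensRange_fromSpec]
  have e : Spec.map φ₀ ≫ hW₀.fromSpec = hU₀.fromSpec ≫ a := hW₀.SpecMap_appLE_fromSpec a hU₀ hle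
  have h4 : IsPullback (hU₀.isoSpec.hom ≫ Spec.map π') (U₀.ι ≫ a) (Spec.map φ ≫ hW.fromSpec) i := by
    refine (h1.paste_vert h2).of_iso hU₀.isoSpec.symm (Iso.refl _) (Iso.refl _) (Iso.refl _) ?_ ?_ ?_ ?_
    · rw [Iso.refl_hom, Category.comp_id, Iso.symm_hom, Iso.inv_hom_id_assoc]
    · rw [Iso.refl_hom, Category.comp_id, Iso.symm_hom, e]
      exact Category.assoc _ _ _
    · rw [Iso.refl_hom, Iso.refl_hom, Category.comp_id, Category.id_comp]
    · rw [Iso.refl_hom, Iso.refl_hom, Category.comp_id, Category.id_comp]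
  refine ⟨A', φ, hU₀.isoSpec.hom ≫ Spec.map π', RingHom.smooth_algebraMap.mpr hA, ?_, h4⟩
  exact h4.w.trans (Category.assoc _ _ _)

end Groth.Agent.FLift27
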